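import Cfsg.Prelude.Def_GeometricClasses
import Cfsg.Agent.LieClassical.OrthFinite
set_option linter.all false

/-!
# Orthogonal groups given as `Cfsg.Geo.omegaGL Q`: basic API

For `Q : (ι → F) → F` with `Geo.IsNondegenerateQuadraticForm Q`:
* `qf hQ` : the Mathlib quadratic form, `nondeg_qf`;
* `mem_omegaGL_iff` : `g ∈ omegaGL Q ↔ glEquiv ι F g ∈ E (qf hQ)` in dimension at least five over a finite field;
* `omegaGL_irreducible`, `omegaGL_perfect`.
-/

set_option autoImplicit false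
set_option linter.unusedSectionVars false

namespace Cfsg.Agent.H925

open QuadraticMap Matrix
open Cfsg.Agent.LieClassical.OrthCore Cfsg.Agent.LieClassical.OrthTrans Cfsg.Agent.LieClassical.OrthFinite

variable {ι : Type} [Fintype ι] [DecidableEq ι] {F : Type*} [Field F]

/-- the Mathlib quadratic form attached to a quadratic form given as a function -/
def qf {Q : (ι → F) → F} (hQ : Geo.IsNondegenerateQuadraticForm Q) : QuadraticForm F (ι → F) :=
  QuadraticMap.ofPolar Q (fun a x => by rw [hQ.smul, smul_eq_mul, pow_two])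
    (fun x x' y => hQ.polar_bilinear.add_left x x' y)
    (fun a x y => by rw [hQ.polar_bilinear.smul_left, smul_eq_mul])

@[simp] theorem coe_qf {Q : (ι → F) → F} (hQ : Geo.IsNondegenerateQuadraticForm Q) : ⇑(qf hQ) = Q := rfl

theorem qf_apply {Q : (ι → F) → F} (hQ : Geo.IsNondegenerateQuadraticForm Q) (v : ι → F) : qf hQ v = Q v := rfl

theorem nondeg_qf {Q : (ι → F) → F} (hQ : Geo.IsNondegenerateQuadraticForm Q) : Nondeg (qf hQ) := by
  intro x hx
  by_contra h
  obtain ⟨y, hy⟩ := (hQ.nondegenerate x h).2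
  exact hy (hx y)

theorem isND_of_nondeg {Q : QuadraticForm F (ι → F)} (hQ : Nondeg Q) : Geo.IsNondegenerateQuadraticForm (⇑Q) where
  smul c v := by rw [QuadraticMap.map_smul, smul_eq_mul, pow_two]
  polar_bilinear :=
    { add_left := fun x y v => polar_add_left Q x y v
      smul_left := fun c x v => by rw [polar_smul_left, smul_eq_mul]
      add_right := fun v x y => polar_add_right Q v x y
      smul_right := fun c v x => by rw [polar_smul_right, smul_eq_mul] }
  nondegenerate := fun v hv => by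
    obtain ⟨y, hy⟩ := hQ.exists_polar_ne hv
    exact ⟨⟨y, by rwa [polar_comm]⟩, ⟨y, hy⟩⟩

theorem mem_iso_iff {Q : (ι → F) → F} {g : GL ι F} :
    g ∈ Cfsg.isometryGroup F Q ↔ ∀ v, Q ((g : Matrix ι ι F) *ᵥ v) = Q v := mem_isometryGroup_iff

/-- `omegaGL` as a subgroup of the linear automorphisms -/
theorem map_omegaGL (Q : QuadraticForm F (ι → F)) :
    (Geo.omegaGL (⇑Q)).map (glEquiv ι F).toMonoidHom = ⁅O Q, O Q⁆ := by
  rw [Geo.omegaGL, Subgroup.map_map]
  exact map_Omega Q

theorem mem_omegaGL_iff' {Q : (ι → F) → F} (hQ : Geo.IsNondegenerateQuadraticForm Q) {g : GL ι F} :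
    g ∈ Geo.omegaGL Q ↔ glEquiv ι F g ∈ ⁅O (qf hQ), O (qf hQ)⁆ := by
  rw [← map_omegaGL]
  constructor
  · intro h
    exact ⟨g, h, rfl⟩
  · rintro ⟨g', h', he⟩
    have : g' = g := (glEquiv ι F).injective he
    rwa [← this]

theorem omegaGL_le_iso (Q : (ι → F) → F) : Geo.omegaGL Q ≤ Cfsg.isometryGroup F Q := by
  rintro _ ⟨g, _, rfl⟩
  exact g.2

theorem commutator_mem_omegaGL {Q : (ι → F) → F} {g h : GL ι F} (hg : g ∈ Cfsg.isometryGroup F Q)
    (hh : h ∈ Cfsg.isometryGroup F Q) : g * h * g⁻¹ * h⁻¹ ∈ Geo.omegaGL Q := by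
  let g' : Cfsg.isometryGroup F Q := ⟨g, hg⟩
  let h' : Cfsg.isometryGroup F Q := ⟨h, hh⟩
  refine ⟨g' * h' * g'⁻¹ * h'⁻¹, ?_, rfl⟩
  exact Subgroup.commutator_mem_commutator (Subgroup.mem_top g') (Subgroup.mem_top h')

section Finite

variable [Finite F] {Q : (ι → F) → F} (hQ : Geo.IsNondegenerateQuadraticForm Q)

include hQ

theorem good_qf (hn : 5 ≤ Fintype.card ι) : Good (qf hQ) :=
  good_of_finite (nondeg_qf hQ) (by rwa [Module.finrank_fintype_fun_eq_card])

theorem mem_omegaGL_iff (hn : 5 ≤ Fintype.card ι) {g : GL ι F} :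
    g ∈ Geo.omegaGL Q ↔ glEquiv ι F g ∈ E (qf hQ) := by
  rw [mem_omegaGL_iff' hQ, (good_qf hQ hn).commutator_eq_E]

theorem map_omegaGL_eq (hn : 5 ≤ Fintype.card ι) :
    (Geo.omegaGL Q).map (glEquiv ι F).toMonoidHom = E (qf hQ) := by
  rw [← (good_qf hQ hn).commutator_eq_E]
  exact map_omegaGL (qf hQ)

/-- every element of `E` comes from an element of `omegaGL` -/
theorem exists_omegaGL (hn : 5 ≤ Fintype.card ι) {g : (ι → F) ≃ₗ[F] (ι → F)} (hg : g ∈ E (qf hQ)) :
    ∃ g' ∈ Geo.omegaGL Q, ∀ v, (g' : Matrix ι ι F) *ᵥ v = g v := by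
  rw [← map_omegaGL_eq hQ hn] at hg
  obtain ⟨g', hg', rfl⟩ := hg
  exact ⟨g', hg', fun v => rfl⟩

/-- The Siegel transformations lie in `omegaGL`. -/
theorem exists_siegel (hn : 5 ≤ Fintype.card ι) {u w : ι → F} (hu : Q u = 0) (hw : polar Q u w = 0) :
    ∃ g ∈ Geo.omegaGL Q, ∀ v, (g : Matrix ι ι F) *ᵥ v =
      v + polar Q u v • w - polar Q w v • u - (Q w * polar Q u v) • u := by
  have hu' : qf hQ u = 0 := hu
  have hw' : polar (qf hQ) u w = 0 := hw
  obtain ⟨g, hg, h⟩ := exists_omegaGL hQ hn (siegel_mem_E (Q := qf hQ) hu' hw')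
  exact ⟨g, hg, fun v => (h v).trans (siegel_apply hu' hw' v)⟩

/-- `omegaGL` is transitive on the nonzero vectors with a given value of the form. -/
theorem exists_trans (hn : 5 ≤ Fintype.card ι) {v v' : ι → F} (hv : v ≠ 0) (hv' : v' ≠ 0) (h : Q v = Q v') :
    ∃ g ∈ Geo.omegaGL Q, (g : Matrix ι ι F) *ᵥ v = v' := by
  obtain ⟨g, hg, h⟩ := (good_qf hQ hn).trans_norm hv hv' h
  obtain ⟨g', hg', h'⟩ := exists_omegaGL hQ hn hg
  exact ⟨g', hg', by rw [h', h]⟩

/-- `omegaGL` is perfect. -/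
theorem omegaGL_perfect (hn : 5 ≤ Fintype.card ι) : ⁅Geo.omegaGL Q, Geo.omegaGL Q⁆ = Geo.omegaGL Q := by
  apply Subgroup.map_injective (f := (glEquiv ι F).toMonoidHom) (glEquiv ι F).injective
  rw [Subgroup.map_commutator, map_omegaGL_eq hQ hn, (good_qf hQ hn).E_perfect]

/-- a nonzero singular vector exists, with a hyperbolic partner -/
theorem exists_hypPair (hn : 5 ≤ Fintype.card ι) : ∃ x y : ι → F, Hyp (qf hQ) x y := (good_qf hQ hn).exists_hyp

/-- `omegaGL` acts irreducibly. -/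
theorem omegaGL_irreducible (hn : 5 ≤ Fintype.card ι) (W : Submodule F (ι → F))
    (hW : ∀ g ∈ Geo.omegaGL Q, ∀ w ∈ W, (g : Matrix ι ι F) *ᵥ w ∈ W) : W = ⊥ ∨ W = ⊤ := by
  by_cases h0 : W = ⊥
  · exact Or.inl h0
  right
  obtain ⟨w, hwW, hw0⟩ := (Submodule.ne_bot_iff W).1 h0
  have hG := good_qf hQ hn
  obtain ⟨x, y, hxy⟩ := hG.exists_hyp
  -- a singular vector `u` with `B(u, w) = 1`
  obtain ⟨u, hu, huw⟩ := exists_sing_polar_one hG.nondeg hxy hw0
  have hu0 : u ≠ 0 := by
    rintro rfl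
    rw [polar_zero_left] at huw
    exact zero_ne_one huw
  obtain ⟨u', huu'⟩ := Cfsg.Agent.LieClassical.OrthTrans.exists_hyp hG.nondeg hu hu0
  obtain ⟨a, c, h1, h2, h3, h4, h5⟩ := exists_perp2 hG.nondeg (by
    rw [Module.finrank_fintype_fun_eq_card]; omega) huu'
  -- `x + c(x) u ∈ W` for `x ⟂ u`
  have key : ∀ x : ι → F, polar (qf hQ) u x = 0 →
      x - (polar (qf hQ) x w + qf hQ x) • u ∈ W := by
    intro x hx
    obtain ⟨g, hg, hgv⟩ := exists_siegel hQ hn (u := u) (w := x) hu hx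
    have h := W.sub_mem (hW g hg w hwW) hwW
    rw [hgv] at h
    have e : w + polar Q u w • x - polar Q x w • u - (Q x * polar Q u w) • u - w =
        x - (polar (qf hQ) x w + qf hQ x) • u := by
      have : polar Q u w = 1 := huw
      rw [this]
      show w + (1 : F) • x - polar Q x w • u - (Q x * 1) • u - w = x - (polar Q x w + Q x) • u
      module
    rwa [e] at h
  have huW : u ∈ W := by
    have ha := key a h1
    have hc := key c h3
    have hac := key (a + c) (by rw [polar_add_right, h1, h3, add_zero])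
    have h := W.sub_mem (W.sub_mem hac ha) hc
    have e : a + c - (polar (qf hQ) (a + c) w + qf hQ (a + c)) • u - (a - (polar (qf hQ) a w + qf hQ a) • u) -
        (c - (polar (qf hQ) c w + qf hQ c) • u) = (-1 : F) • u := by
      rw [polar_add_left, Q_add, h5]
      module
    rw [e] at h
    have := W.smul_mem (-1) h
    rwa [smul_smul, neg_one_mul, neg_neg, one_smul] at this
  have hsing : ∀ z : ι → F, Q z = 0 → z ∈ W := by
    intro z hz
    by_cases hz0 : z = 0
    · rw [hz0]; exact W.zero_mem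
    obtain ⟨g, hg, hgu⟩ := exists_trans hQ hn hu0 hz0 (show Q u = Q z by rw [hz]; exact hu)
    rw [← hgu]
    exact hW g hg u huW
  rw [eq_top_iff]
  intro v _
  exact sing_induction hxy (P := fun v => v ∈ W) (fun a c ha hc => W.add_mem ha hc) (fun a ha => hsing a ha) v

end Finite

end Cfsg.Agent.H925
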