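import Cfsg.Agent.H925.OrthNot
import Cfsg.Agent.H924.Reduc
import Cfsg.Agent.H884.OmegaGL
import Cfsg.Agent.H884.SingMaxPlus
set_option linter.all false

/-!
# Reducible subgroups of orthogonal groups given by a quadratic form `Q` as a function
-/

set_option autoImplicit false
set_option linter.unusedSectionVars false

namespace Cfsg.Agent.H925

open QuadraticMap Matrix
open Cfsg.Agent.LieClassical.OrthCore Cfsg.Agent.LieClassical.OrthTrans Cfsg.Agent.LieClassical.OrthFinite

variable {ι : Type} [Fintype ι] [DecidableEq ι] {F : Type*} [Field F]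

/-- the polar form is a symmetric form in the sense of `HermForm` -/
theorem hermForm_polar {Q : (ι → F) → F} (hQ : Geo.IsNondegenerateQuadraticForm Q) :
    Cfsg.Agent.H919.HermForm (RingEquiv.refl F) 1 (polar Q) where
  add_left := hQ.polar_bilinear.add_left
  smul_left := hQ.polar_bilinear.smul_left
  sigma_sq := fun a => rfl
  eps := by simp
  herm := fun v w => by
    rw [one_mul, polar_comm]; rfl
  nondegenerate := hQ.nondegenerate

theorem polar_iso {Q : (ι → F) → F} {g : GL ι F} (hg : g ∈ Cfsg.isometryGroup F Q) (u v : ι → F) :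
    polar Q ((g : Matrix ι ι F) *ᵥ u) ((g : Matrix ι ι F) *ᵥ v) = polar Q u v := by
  have h := mem_iso_iff.1 hg
  rw [polar, ← Matrix.mulVec_add, h, h, h, polar]

theorem polar_self {Q : (ι → F) → F} (hQ : Geo.IsNondegenerateQuadraticForm Q) (v : ι → F) :
    polar Q v v = 2 * Q v := by
  have h := QuadraticMap.polar_self (qf hQ) v
  have h' : polar Q v v = 2 • Q v := h
  rw [h', two_nsmul, two_mul]

theorem Q_add' {Q : (ι → F) → F} (hQ : Geo.IsNondegenerateQuadraticForm Q) (u v : ι → F) :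
    Q (u + v) = Q u + Q v + polar Q u v := Q_add (Q := qf hQ) u v

theorem Q_zero {Q : (ι → F) → F} (hQ : Geo.IsNondegenerateQuadraticForm Q) : Q 0 = 0 :=
  QuadraticMap.map_zero (qf hQ)

/-- a totally isotropic invariant subspace gives a totally singular one or a nonsingular point (in characteristic two) -/
theorem isotropic_cases [Finite F] {Q : (ι → F) → F} (hQ : Geo.IsNondegenerateQuadraticForm Q)
    {H : Subgroup (GL ι F)} (hH : H ≤ Cfsg.isometryGroup F Q) {W : Submodule F (ι → F)} (hW0 : W ≠ ⊥)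
    (hW : Geo.IsTotallySingularFor (polar Q) W) (hHW : H ≤ Geo.subspaceStabilizer W) :
    (∃ W : Submodule F (ι → F), W ≠ ⊥ ∧ Geo.IsTotallySingularQuad Q W ∧ H ≤ Geo.subspaceStabilizer W) ∨
    ((2 : F) = 0 ∧ ∃ v : ι → F, Q v ≠ 0 ∧ H ≤ Geo.subspaceStabilizer (Submodule.span F {v})) := by
  by_cases h2 : (2 : F) = 0
  · -- the singular vectors of `W`
    let W₀ : Submodule F (ι → F) :=
      { carrier := {w | w ∈ W ∧ Q w = 0}
        add_mem' := by
          rintro a b ⟨ha, ha'⟩ ⟨hb, hb'⟩
          refine ⟨W.add_mem ha hb, ?_⟩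
          rw [Q_add' hQ, ha', hb', hW a ha b hb]; ring
        zero_mem' := ⟨W.zero_mem, Q_zero hQ⟩
        smul_mem' := by
          rintro c a ⟨ha, ha'⟩
          refine ⟨W.smul_mem c ha, ?_⟩
          rw [hQ.smul, ha', mul_zero] }
    have hW₀ : ∀ w, w ∈ W₀ ↔ w ∈ W ∧ Q w = 0 := fun w => Iff.rfl
    by_cases h0 : W₀ = ⊥
    · right
      refine ⟨h2, ?_⟩
      obtain ⟨v, hvW, hv0⟩ := (Submodule.ne_bot_iff W).1 hW0
      have hne : ∀ w ∈ W, w ≠ 0 → Q w ≠ 0 := by
        intro w hw hw0 hQw
        apply hw0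
        have : w ∈ W₀ := ⟨hw, hQw⟩
        rwa [h0, Submodule.mem_bot] at this
      refine ⟨v, hne v hvW hv0, ?_⟩
      have hWspan : W = Submodule.span F {v} := by
        apply le_antisymm
        · intro w hw
          have hchar : CharP F 2 := CharTwo.of_one_ne_zero_of_two_eq_zero one_ne_zero h2
          obtain ⟨c, hc⟩ : ∃ c : F, c ^ 2 = Q w / Q v := by
            obtain ⟨c, hc⟩ := (bijective_frobenius F 2).2 (Q w / Q v)
            exact ⟨c, by rw [← hc, frobenius_def]⟩
          have h1 : c • v + w ∈ W₀ := by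
            refine ⟨W.add_mem (W.smul_mem c hvW) hw, ?_⟩
            rw [Q_add' hQ, hQ.smul, hW _ (W.smul_mem c hvW) w hw, hc, div_mul_cancel₀ _ (hne v hvW hv0)]
            linear_combination Q w * h2
          rw [h0, Submodule.mem_bot] at h1
          rw [Submodule.mem_span_singleton]
          refine ⟨-c, ?_⟩
          rw [neg_smul, eq_comm]
          exact (eq_neg_of_add_eq_zero_right h1)
        · rw [Submodule.span_le, Set.singleton_subset_iff]
          exact hvW
      rw [← hWspan]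
      exact hHW
    · left
      refine ⟨W₀, h0, fun w hw => hw.2, fun g hg v => ?_⟩
      have h3 : v ∈ W ↔ (g : Matrix ι ι F) *ᵥ v ∈ W := (hHW hg) v
      have h4 : Q ((g : Matrix ι ι F) *ᵥ v) = Q v := mem_iso_iff.1 (hH hg) v
      show v ∈ W₀ ↔ (g : Matrix ι ι F) *ᵥ v ∈ W₀
      rw [hW₀, hW₀, ← h3, h4]
  · left
    refine ⟨W, hW0, fun w hw => ?_, hHW⟩
    have h1 := hW w hw w hw
    rw [polar_self hQ] at h1
    exact (mul_eq_zero.1 h1).resolve_left h2

/-- **Class 1**: a reducible group of isometries stabilises a totally singular subspace, a nondegenerate subspace of at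
most half the dimension, or (characteristic two) a nonsingular point. -/
theorem reducible_cases [Finite F] {Q : (ι → F) → F} (hQ : Geo.IsNondegenerateQuadraticForm Q)
    {H : Subgroup (GL ι F)} (hH : H ≤ Cfsg.isometryGroup F Q) (hred : ¬ Geo.ActsIrreducibly (Geo.matrixSet H)) :
    (∃ W : Submodule F (ι → F), W ≠ ⊥ ∧ Geo.IsTotallySingularQuad Q W ∧ H ≤ Geo.subspaceStabilizer W) ∨
    (∃ W : Submodule F (ι → F), W ≠ ⊥ ∧ Geo.IsNondegenerateOn (polar Q) W ∧
      2 * Module.finrank F W ≤ Fintype.card ι ∧ H ≤ Geo.subspaceStabilizer W) ∨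
    ((2 : F) = 0 ∧ ∃ v : ι → F, Q v ≠ 0 ∧ H ≤ Geo.subspaceStabilizer (Submodule.span F {v})) := by
  have hf := hermForm_polar hQ
  rcases Cfsg.Agent.H924.reducible_cases hf (fun g hg => polar_iso (hH hg)) hred with
    ⟨W, hW0, hW, hHW⟩ | ⟨W, hW0, hW, hd, hHW⟩ | ⟨k, D, hD, -, h0, h1⟩
  · rcases isotropic_cases hQ hH hW0 hW hHW with h | h
    · exact Or.inl h
    · exact Or.inr (Or.inr h)
  · exact Or.inr (Or.inl ⟨W, hW0, hW, hd.le, hHW⟩)
  · refine Or.inr (Or.inl ⟨D 0, ?_, hD.nondegenerate 0, ?_, h0⟩)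
    · intro hb
      have := hD.decomp.finrank_eq 0
      rw [hb, finrank_bot] at this
      have := hD.decomp.pos
      omega
    · have h2 : D 1 ≤ Cfsg.Agent.H924.perpOf hf (D 0) := by
        intro v hv
        rw [Cfsg.Agent.H924.mem_perpOf]
        intro w hw
        exact hD.orthogonal 1 0 (by decide) v hv w hw
      have h3 := Submodule.finrank_mono h2
      have h4 := Cfsg.Agent.H924.finrank_perpOf hf (D 0)
      rw [hD.decomp.finrank_eq] at h3
      rw [hD.decomp.finrank_eq] at h4 ⊢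
      omega

/-- plus type gives a totally singular subspace of half dimension -/
theorem exists_half {Q : (ι → F) → F} (hplus : Geo.IsPlusTypeOn Q ⊤) :
    ∃ U : Submodule F (ι → F), Geo.IsTotallySingularQuad Q U ∧ 2 * Module.finrank F U = Fintype.card ι := by
  obtain ⟨U, -, h1, h2⟩ := hplus
  refine ⟨U, h1, ?_⟩
  rw [finrank_top, Module.finrank_fintype_fun_eq_card] at h2
  exact h2

/-- totally singular subspaces have at most half the dimension -/
theorem two_mul_finrank_le {Q : (ι → F) → F} (hQ : Geo.IsNondegenerateQuadraticForm Q) {W : Submodule F (ι → F)}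
    (hW : Geo.IsTotallySingularQuad Q W) : 2 * Module.finrank F W ≤ Fintype.card ι := by
  have := Cfsg.Agent.H884.SingMaxPlus.two_mul_finrank_le (nondeg_qf hQ) (W := W) hW
  rwa [Module.finrank_fintype_fun_eq_card] at this

theorem glEquiv_apply' (g : GL ι F) (v : ι → F) : glEquiv ι F g v = (g : Matrix ι ι F) *ᵥ v := rfl

/-- (S) in plus type, subgroups of `Ω` stabilising a totally singular subspace of codimension one in a maximal one
stabilise a maximal totally singular subspace. -/
theorem exists_stab_half {Q : (ι → F) → F} (hQ : Geo.IsNondegenerateQuadraticForm Q) (hplus : Geo.IsPlusTypeOn Q ⊤)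
    {W : Submodule F (ι → F)} (hW : Geo.IsTotallySingularQuad Q W)
    (hd : 2 * (Module.finrank F W + 1) = Fintype.card ι) {H : Subgroup (GL ι F)} (hH : H ≤ Geo.omegaGL Q)
    (hHW : H ≤ Geo.subspaceStabilizer W) :
    ∃ W₁ : Submodule F (ι → F), W ≤ W₁ ∧ Geo.IsTotallySingularQuad Q W₁ ∧
      2 * Module.finrank F W₁ = Fintype.card ι ∧ H ≤ Geo.subspaceStabilizer W₁ := by
  obtain ⟨U, hU, hUd⟩ := exists_half hplus
  obtain ⟨z, hzU, hzW, hz⟩ := Cfsg.Agent.H884.SingMaxPlus.exists_extend (nondeg_qf hQ) (W := W) (U := U) hU (by omega)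
  have h1 := Cfsg.Agent.H884.SingMaxPlus.sup_span_singular (Q := qf hQ) hW (hU z hzU) hzW
  have h2 := Cfsg.Agent.H884.SingMaxPlus.finrank_sup_span hz
  refine ⟨W ⊔ Submodule.span F {z}, le_sup_left, h1, by omega, fun g hg => ?_⟩
  rw [Cfsg.Agent.H884.OmegaGL.mem_subspaceStabilizer]
  refine Cfsg.Agent.H884.SingMaxPlus.stabilizes_above (nondeg_qf hQ) (W := W) h1 le_sup_left h2 ?_ ?_ ?_
  · rw [Module.finrank_fintype_fun_eq_card]; omega
  · exact (mem_omegaGL_iff' hQ).1 (hH hg)
  · exact Cfsg.Agent.H884.OmegaGL.mem_subspaceStabilizer.1 (hHW hg)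

/-- (P) parity: subgroups of `Ω` stabilising a pair of complementary totally singular subspaces of odd half dimension
stabilise each of them. -/
theorem stab_of_pair {Q : (ι → F) → F} (hQ : Geo.IsNondegenerateQuadraticForm Q)
    {D : Fin 2 → Submodule F (ι → F)} {m : ℕ} (hD : Geo.IsMDecomposition m D) (hm : Odd m)
    (hn : Fintype.card ι = 2 * m) (hs : ∀ i, Geo.IsTotallySingularQuad Q (D i))
    {H : Subgroup (GL ι F)} (hH : H ≤ Geo.omegaGL Q) (hHD : H ≤ Geo.decompositionStabilizer D) :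
    ∀ i, H ≤ Geo.subspaceStabilizer (D i) := by
  intro i g hg
  have hdi := hD.finrank_eq i
  have hpar := Cfsg.Agent.H884.OmegaGL.even_finrank_inf_map (nondeg_qf hQ) (W := D i) (hs i)
    (by rw [Module.finrank_fintype_fun_eq_card, hdi, hn]) ((mem_omegaGL_iff' hQ).1 (hH hg))
  obtain ⟨s, hσ⟩ := hHD hg
  have hmap : (D i).map (glEquiv ι F g).toLinearMap = D (s i) := hσ i
  rw [hmap, hdi] at hpar
  have hsi : s i = i := by
    by_contra hne
    have hdisj : D i ⊓ D (s i) = ⊥ := by
      have := hD.indep.pairwiseDisjoint (Ne.symm hne)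
      exact disjoint_iff.1 this
    rw [hdisj, finrank_bot, zero_add] at hpar
    exact (Nat.not_even_iff_odd.2 hm) hpar
  rw [Cfsg.Agent.H884.OmegaGL.mem_subspaceStabilizer]
  intro w hw
  rw [← hsi, ← hmap]
  exact ⟨w, hw, rfl⟩

end Cfsg.Agent.H925
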