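import Cfsg.Agent.H925.EvenFine
import Cfsg.Agent.H925.OrthPlane3
import Cfsg.Agent.H925.OrthPlane4
import Cfsg.Agent.H922.OddThree
import Cfsg.Agent.H926.Sub1
import Cfsg.Agent.H926.Deg
import Cfsg.Agent.H924.TensorTwo
import Cfsg.Agent.H924.SympField
import Cfsg.Agent.H912.TensForm3
import Cfsg.Agent.H912.TensForm4
import Cfsg.Agent.H926.OverTwo
set_option linter.all false

-- part: H925/Plus10
section
/-!
# Subgroups of the ten-dimensional orthogonal group of plus type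
-/

set_option autoImplicit false
set_option linter.unusedSectionVars false

namespace Cfsg.Agent.H925

open QuadraticMap Matrix
open Cfsg.Agent.H919 (HermForm WreathData)

variable {ι : Type} [Fintype ι] [DecidableEq ι] {F : Type*} [Field F]

/-- q = 2: a plane of plus type has a unique nonsingular vector -/
theorem plus_plane_le_two [Fintype F] (hF : Fintype.card F = 2) {Q : (ι → F) → F}
    (hQ : Geo.IsNondegenerateQuadraticForm Q) {W : Submodule F (ι → F)}
    (hW : Geo.IsNondegenerateOn (polar Q) W) (hd : Module.finrank F W = 2) (hp : Geo.IsPlusTypeOn Q W) :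
    ∃ v : ι → F, Q v ≠ 0 ∧ Geo.subspaceStabilizer W ⊓ Cfsg.isometryGroup F Q ≤
      Geo.subspaceStabilizer (Submodule.span F {v}) := by
  classical
  have hcases : ∀ a : F, a = 0 ∨ a = 1 := by
    intro a
    by_contra hcon
    push Not at hcon
    have h3 : ({0, 1, a} : Finset F).card ≤ Fintype.card F := Finset.card_le_univ _
    rw [Finset.card_eq_three.2 ⟨0, 1, a, zero_ne_one, hcon.1.symm, hcon.2.symm, rfl⟩, hF] at h3
    omega
  obtain ⟨x, hx, y, hy, hQx, hQy, hxy, hspan, hval⟩ := exists_hyp_of_plus hQ hW hd hp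
  have hQv : Q (x + y) = 1 := by
    have := hval 1 1
    rwa [one_smul, one_smul, one_mul] at this
  refine ⟨x + y, by rw [hQv]; exact one_ne_zero, ?_⟩
  have huniq : ∀ v ∈ W, Q v = 1 → v = x + y := by
    intro v hv hQv
    obtain ⟨a, b, rfl⟩ := hspan v hv
    rw [hval] at hQv
    rcases hcases a with rfl | rfl
    · rw [zero_mul] at hQv; exact absurd hQv zero_ne_one
    · rcases hcases b with rfl | rfl
      · rw [mul_zero] at hQv; exact absurd hQv zero_ne_one
      · rw [one_smul, one_smul]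
  rintro g ⟨hgW, hgI⟩
  have hfix : (g : Matrix ι ι F) *ᵥ (x + y) = x + y := by
    apply huniq
    · exact (hgW (x + y)).1 (W.add_mem hx hy)
    · rw [mem_iso_iff.1 hgI, hQv]
  rw [Cfsg.Agent.H884.OmegaGL.mem_subspaceStabilizer]
  intro w hw
  obtain ⟨c, rfl⟩ := Submodule.mem_span_singleton.1 hw
  rw [map_smul]
  apply Submodule.smul_mem
  rw [glEquiv_apply', hfix]
  exact Submodule.mem_span_singleton_self _

/-- **Reducible subgroups.** -/
theorem plus10_reducible [Fintype F] (hn : Fintype.card ι = 10) {Q : (ι → F) → F}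
    (hQ : Geo.IsNondegenerateQuadraticForm Q) (hplus : Geo.IsPlusTypeOn Q ⊤) {H : Subgroup (GL ι F)}
    (hH : H ≤ Geo.omegaGL Q) (hred : ¬ Geo.ActsIrreducibly (Geo.matrixSet H)) :
    (∃ W : Submodule F (ι → F), W ≠ ⊥ ∧ Geo.IsTotallySingularQuad Q W ∧ Module.finrank F W ≠ 4 ∧
      H ≤ Geo.subspaceStabilizer W) ∨
    (Odd (Fintype.card F) ∧ ∃ W : Submodule F (ι → F), W ≠ ⊥ ∧ W ≠ ⊤ ∧ Odd (Module.finrank F W) ∧
      2 * Module.finrank F W ≠ 10 ∧ Geo.IsNondegenerateOn (polar Q) W ∧ H ≤ Geo.subspaceStabilizer W) ∨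
    (∃ W : Submodule F (ι → F), Module.finrank F W = 2 ∧ Geo.IsNondegenerateOn (polar Q) W ∧
      ¬ Geo.IsPlusTypeOn Q W ∧ H ≤ Geo.subspaceStabilizer W) ∨
    (4 ≤ Fintype.card F ∧ ∃ W : Submodule F (ι → F), Module.finrank F W = 2 ∧ Geo.IsNondegenerateOn (polar Q) W ∧
      Geo.IsPlusTypeOn Q W ∧ H ≤ Geo.subspaceStabilizer W) ∨
    (∃ W : Submodule F (ι → F), Module.finrank F W = 4 ∧ Geo.IsNondegenerateOn (polar Q) W ∧
      H ≤ Geo.subspaceStabilizer W) ∨
    (¬ Odd (Fintype.card F) ∧ ∃ v : ι → F, Q v ≠ 0 ∧ H ≤ Geo.subspaceStabilizer (Submodule.span F {v})) ∨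
    (Fintype.card F % 4 = 1 ∧ ∃ D : Fin 2 → Submodule F (ι → F), Geo.IsOrthogonalMDecomposition Q 5 D ∧
      H ≤ Geo.decompositionStabilizer D) ∨
    (Fintype.card F % 4 = 3 ∧ ∃ D : Fin 2 → Submodule F (ι → F), Geo.IsNondegenerateMDecomposition (polar Q) 5 D ∧
      ¬ Geo.AreIsometricFor Q (D 0) (D 1) ∧ H ≤ Geo.decompositionStabilizer D) := by
  have hHI : H ≤ Cfsg.isometryGroup F Q := hH.trans (omegaGL_le_iso Q)
  have hodd : ∀ W : Submodule F (ι → F), Geo.IsNondegenerateOn (polar Q) W → Odd (Module.finrank F W) →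
      Odd (Fintype.card F) := by
    intro W hW hWodd
    by_contra hcon
    have h2 := Cfsg.Agent.H926.card_even_iff_two_eq_zero.1 hcon
    have := Cfsg.Agent.H926.even_on hQ.polar_bilinear W (fun v _ => by rw [polar_self hQ, h2, zero_mul]) hW
    exact (Nat.not_even_iff_odd.2 hWodd) this
  rcases Cfsg.Agent.H924.reducible_cases (hermForm_polar hQ) (fun g hg => polar_iso (hHI hg)) hred with
    ⟨W, hW0, hW, hHW⟩ | ⟨W, hW0, hW, hd, hHW⟩ | ⟨k, D, hD, hHD, -, -⟩
  · rcases isotropic_cases hQ hHI hW0 hW hHW with ⟨W, hW0, hW, hHW⟩ | ⟨h2, v, hv, hHv⟩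
    · by_cases h4 : Module.finrank F W = 4
      · obtain ⟨W₁, hle, hs, hd, hst⟩ := exists_stab_half hQ hplus hW (by omega) hH hHW
        refine Or.inl ⟨W₁, ?_, hs, by omega, hst⟩
        rintro rfl
        rw [finrank_bot] at hd
        omega
      · exact Or.inl ⟨W, hW0, hW, h4, hHW⟩
    · exact Or.inr (Or.inr (Or.inr (Or.inr (Or.inr (Or.inl
        ⟨Cfsg.Agent.H926.card_even_iff_two_eq_zero.2 h2, v, hv, hHv⟩)))))
  · have hpos : Module.finrank F W ≠ 0 := fun h => hW0 (Submodule.finrank_eq_zero.1 h)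
    have hWtop : W ≠ ⊤ := by
      rintro rfl
      rw [finrank_top, Module.finrank_fintype_fun_eq_card] at hd
      omega
    rw [hn] at hd
    have hcases : Odd (Module.finrank F W) ∨ Module.finrank F W = 2 ∨ Module.finrank F W = 4 := by
      rcases Nat.even_or_odd (Module.finrank F W) with h | h
      · obtain ⟨a, ha⟩ := h
        omega
      · exact Or.inl h
    rcases hcases with h | h | h
    · exact Or.inr (Or.inl ⟨hodd W hW h, W, hW0, hWtop, h, by omega, hW, hHW⟩)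
    · by_cases hp : Geo.IsPlusTypeOn Q W
      · by_cases h4 : 4 ≤ Fintype.card F
        · exact Or.inr (Or.inr (Or.inr (Or.inl ⟨h4, W, h, hW, hp, hHW⟩)))
        · have h2 : 2 ≤ Fintype.card F := Fintype.one_lt_card
          have h23 : Fintype.card F = 2 ∨ Fintype.card F = 3 := by omega
          rcases h23 with h2 | h3
          · obtain ⟨v, hv, hle⟩ := plus_plane_le_two h2 hQ hW h hp
            refine Or.inr (Or.inr (Or.inr (Or.inr (Or.inr (Or.inl ⟨?_, v, hv, (le_inf hHW hHI).trans hle⟩)))))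
            rw [h2]; decide
          · obtain ⟨W', hd', hW', hle⟩ := Cfsg.Agent.H922.plus_plane_le h3 hQ hW h hp
            rw [hn] at hd'
            refine Or.inr (Or.inl ⟨by rw [h3]; decide, W', ?_, ?_, ?_, by omega, hW',
              ((le_inf hHW hHI).trans hle).trans inf_le_left⟩)
            · rintro rfl
              rw [finrank_bot] at hd'
              omega
            · rintro rfl
              rw [finrank_top, Module.finrank_fintype_fun_eq_card] at hd'
              omega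
            · have : Module.finrank F W' = 9 := by omega
              rw [this]; decide
      · exact Or.inr (Or.inr (Or.inl ⟨W, h, hW, hp, hHW⟩))
    · exact Or.inr (Or.inr (Or.inr (Or.inr (Or.inl ⟨W, h, hW, hHW⟩))))
  · have hk : 2 * k = Fintype.card ι := Cfsg.Agent.H922.mul_eq_card hD.decomp
    have hk5 : k = 5 := by omega
    subst hk5
    have hoddF : Odd (Fintype.card F) := hodd (D 0) (hD.nondegenerate 0) (by rw [hD.decomp.finrank_eq]; decide)
    have h2 : (2 : F) ≠ 0 := Cfsg.Agent.H922.two_ne_zero_of_odd_card hoddF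
    by_cases hsq : IsSquare (-1 : F)
    · have h41 : Fintype.card F % 4 = 1 := by
        have := FiniteField.isSquare_neg_one_iff.1 hsq
        obtain ⟨a, ha⟩ := hoddF
        omega
      have hiso := isometric_of_square hQ h2 hplus hn hD hsq
      refine Or.inr (Or.inr (Or.inr (Or.inr (Or.inr (Or.inr (Or.inl ⟨h41, D, ⟨hD, ?_⟩, hHD⟩))))))
      obtain ⟨e, he⟩ := hiso
      intro i j
      fin_cases i <;> fin_cases j
      · exact ⟨LinearEquiv.refl F _, fun w => rfl⟩
      · exact ⟨e, he⟩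
      · refine ⟨e.symm, fun w => ?_⟩
        have := he (e.symm w)
        rw [LinearEquiv.apply_symm_apply] at this
        exact this.symm
      · exact ⟨LinearEquiv.refl F _, fun w => rfl⟩
    · have h43 : Fintype.card F % 4 = 3 := by
        by_contra hcon
        exact hsq (FiniteField.isSquare_neg_one_iff.2 hcon)
      refine Or.inr (Or.inr (Or.inr (Or.inr (Or.inr (Or.inr (Or.inr ⟨h43, D, hD, ?_, hHD⟩))))))
      rintro ⟨e, he⟩
      apply hsq
      have hD' : Geo.IsOrthogonalMDecomposition Q 5 D := by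
        refine ⟨hD, fun i j => ?_⟩
        fin_cases i <;> fin_cases j
        · exact ⟨LinearEquiv.refl F _, fun w => rfl⟩
        · exact ⟨e, he⟩
        · refine ⟨e.symm, fun w => ?_⟩
          have := he (e.symm w)
          rw [LinearEquiv.apply_symm_apply] at this
          exact this.symm
        · exact ⟨LinearEquiv.refl F _, fun w => rfl⟩
      exact isSquare_neg_one_of_decomp hQ hplus (t := 2) (m := 5) (by decide) (by decide) hn hD'

end Cfsg.Agent.H925
end

-- part: H925/Plus10b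
section
/-!
# Irreducible subgroups of the ten-dimensional orthogonal group of plus type
-/

set_option autoImplicit false
set_option linter.unusedSectionVars false

namespace Cfsg.Agent.H925

open QuadraticMap Matrix
open Cfsg.Agent.H919 (HermForm WreathData)

variable {ι : Type} [Fintype ι] [DecidableEq ι] {F : Type*} [Field F]

/-- the conclusion for irreducible subgroups -/
def Plus10Irr [Fintype F] (Q : (ι → F) → F) (H : Subgroup (GL ι F)) : Prop :=
    ((∃ p : ℕ, p.Prime ∧ Fintype.card F = p ∧ (p % 4 = 1)) ∧ ∃ D : Fin 10 → Submodule F (ι → F),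
      Geo.IsOrthogonalMDecomposition Q 1 D ∧ H ≤ Geo.decompositionStabilizer D) ∨
    (7 ≤ Fintype.card F ∧ ∃ D : Fin 5 → Submodule F (ι → F), Geo.IsOrthogonalMDecomposition Q 2 D ∧
      H ≤ Geo.decompositionStabilizer D) ∨
    (Fintype.card F % 4 = 1 ∧ ∃ D : Fin 2 → Submodule F (ι → F), Geo.IsOrthogonalMDecomposition Q 5 D ∧
      H ≤ Geo.decompositionStabilizer D) ∨
    (Odd (Fintype.card F) ∧ ∃ K : Subalgebra F (Matrix ι ι F), Geo.IsFieldSubalgebra 2 K ∧
      Geo.IsSelfAdjointFor (polar Q) K ∧ H ≤ Geo.subalgebraNormalizer K) ∨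
    (∃ (F₀ : Subfield F) (r : ℕ) (P : GL ι F) (ζ : F), r.Prime ∧ Fintype.card F = Nat.card F₀ ^ r ∧ ζ ≠ 0 ∧
      Geo.IsQuadFormRationalStructure (fun v : ι → F => ζ * Q v) F₀ P ∧ H ≤ Geo.subfieldSubgroup F₀ P) ∨
    Geo.InOrthogonalResidualClass H

/-- frames -/
theorem plus10_frame [Fintype F] (hn : Fintype.card ι = 10) {Q : (ι → F) → F}
    (hQ : Geo.IsNondegenerateQuadraticForm Q) (hplus : Geo.IsPlusTypeOn Q ⊤) {H : Subgroup (GL ι F)}
    (hH : H ≤ Cfsg.isometryGroup F Q) {D : Fin 10 → Submodule F (ι → F)}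
    (hD : Geo.IsOrthogonalMDecomposition Q 1 D) (hHD : H ≤ Geo.decompositionStabilizer D) :
    Plus10Irr Q H := by
  by_cases hpr : (Fintype.card F).Prime
  · refine Or.inl ⟨⟨_, hpr, rfl, ?_⟩, D, hD, hHD⟩
    have hsq := isSquare_neg_one_of_decomp hQ hplus (t := 10) (m := 5) (by decide) (by decide) hn hD
    have h3 := FiniteField.isSquare_neg_one_iff.1 hsq
    have hodd : Odd (Fintype.card F) := by
      by_contra hcon
      have h2 := Cfsg.Agent.H926.card_even_iff_two_eq_zero.1 hcon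
      have := Cfsg.Agent.H926.even_on hQ.polar_bilinear (D 0) (fun v _ => by rw [polar_self hQ, h2, zero_mul])
        (hD.decomp.nondegenerate 0)
      rw [hD.decomp.decomp.finrank_eq] at this
      exact absurd this (by decide)
    obtain ⟨a, ha⟩ := hodd
    omega
  · obtain ⟨F₀, r, hr, hcard⟩ := Cfsg.Agent.H922.exists_subfield_prime_index hpr
    obtain ⟨P, ζ, hζ, hrat, hle⟩ := frame_le_subfield hQ hD F₀
    exact Or.inr (Or.inr (Or.inr (Or.inr (Or.inl ⟨F₀, r, P, ζ, hr, hcard, hζ, hrat, (le_inf hHD hH).trans hle⟩))))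

/-- nondegenerate decompositions -/
theorem plus10_decomp [Fintype F] (hn : Fintype.card ι = 10) {Q : (ι → F) → F}
    (hQ : Geo.IsNondegenerateQuadraticForm Q) (hplus : Geo.IsPlusTypeOn Q ⊤) {H : Subgroup (GL ι F)}
    (hH : H ≤ Cfsg.isometryGroup F Q) (hirr : Geo.ActsIrreducibly (Geo.matrixSet H)) {t m : ℕ}
    (htm : t * m = Fintype.card ι) {D : Fin t → Submodule F (ι → F)}
    (hD : Geo.IsOrthogonalMDecomposition Q m D) (hHD : H ≤ Geo.decompositionStabilizer D) :
    Plus10Irr Q H := by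
  rw [hn] at htm
  have ht2 := hD.decomp.decomp.two_le
  have hm0 := hD.decomp.decomp.pos
  have htd : t ∣ 10 := ⟨m, htm.symm⟩
  have ht10 : t ≤ 10 := Nat.le_of_dvd (by norm_num) htd
  have hcases : (t = 2 ∧ m = 5) ∨ (t = 5 ∧ m = 2) ∨ (t = 10 ∧ m = 1) := by
    interval_cases t <;> omega
  have hodd : ∀ i, Odd (Module.finrank F (D i)) → Odd (Fintype.card F) := by
    intro i hWodd
    by_contra hcon
    have h2 := Cfsg.Agent.H926.card_even_iff_two_eq_zero.1 hcon
    have := Cfsg.Agent.H926.even_on hQ.polar_bilinear (D i) (fun v _ => by rw [polar_self hQ, h2, zero_mul])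
      (hD.decomp.nondegenerate i)
    exact (Nat.not_even_iff_odd.2 hWodd) this
  rcases hcases with ⟨rfl, rfl⟩ | ⟨rfl, rfl⟩ | ⟨rfl, rfl⟩
  · -- two five-spaces
    have h1 : Odd (Fintype.card F) := hodd 0 (by rw [hD.decomp.decomp.finrank_eq]; decide)
    have hsq := isSquare_neg_one_of_decomp hQ hplus (t := 2) (m := 5) (by decide) (by decide) hn hD
    have h3 := FiniteField.isSquare_neg_one_iff.1 hsq
    refine Or.inr (Or.inr (Or.inl ⟨?_, D, hD, hHD⟩))
    obtain ⟨a, ha⟩ := h1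
    omega
  · -- five planes
    by_cases h7 : 7 ≤ Fintype.card F
    · exact Or.inr (Or.inl ⟨h7, D, hD, hHD⟩)
    have h2 : 2 ≤ Fintype.card F := Fintype.one_lt_card
    -- the planes are of plus type
    have hp : ∀ i, Geo.IsPlusTypeOn Q (D i) := by
      intro i
      by_cases h2 : (2 : F) = 0
      · exact plus_of_decomp_two hQ h2 hplus (by decide) hD i
      · exact plus_of_decomp (k := 1) hQ h2 hplus (by decide) hD i
    have hne6 : Fintype.card F ≠ 6 := by
      intro h6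
      obtain ⟨p, k, hp, hk, hpk⟩ := (isPrimePow_nat_iff _).1 (Fintype.isPrimePow_card_of_field (α := F))
      rw [h6] at hpk
      have h2p : 2 ∣ p ^ k := by rw [hpk]; decide
      have h3p : 3 ∣ p ^ k := by rw [hpk]; decide
      have e2 := (Nat.prime_dvd_prime_iff_eq Nat.prime_two hp).1 (Nat.prime_two.dvd_of_dvd_pow h2p)
      have e3 := (Nat.prime_dvd_prime_iff_eq Nat.prime_three hp).1 (Nat.prime_three.dvd_of_dvd_pow h3p)
      omega
    have hcases : Fintype.card F = 2 ∨ Fintype.card F = 3 ∨ Fintype.card F = 4 ∨ Fintype.card F = 5 := by omega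
    rcases hcases with h | h | h | h
    · exact absurd hirr (not_irreducible_of_plus_two h hQ hD hp hH hHD)
    · exact absurd hirr (not_irreducible_of_plus_three h hQ hD hp hH hHD)
    · obtain ⟨F₀, r, hr, hcard⟩ := Cfsg.Agent.H922.exists_subfield_prime_index (F := F) (by rw [h]; decide)
      obtain ⟨P, hrat, hle⟩ := plus_planes_four h hQ hD hp F₀
      refine Or.inr (Or.inr (Or.inr (Or.inr (Or.inl ⟨F₀, r, P, 1, hr, hcard, one_ne_zero, ?_,
        (le_inf hHD hH).trans hle⟩))))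
      intro u hu
      show 1 * Q _ ∈ F₀
      rw [one_mul]
      exact hrat u hu
    · obtain ⟨D', hD', hle⟩ := plus_planes_five h hQ hD hp
      exact plus10_frame hn hQ hplus hH hD' ((le_inf hHD hH).trans hle)
  · exact plus10_frame hn hQ hplus hH hD hHD

/-- fields of degree two -/
theorem plus10_field_two [Fintype F] (hn : Fintype.card ι = 10) {Q : (ι → F) → F}
    (hQ : Geo.IsNondegenerateQuadraticForm Q) (hplus : Geo.IsPlusTypeOn Q ⊤) {H : Subgroup (GL ι F)}
    (hH : H ≤ Cfsg.isometryGroup F Q) (hirr : Geo.ActsIrreducibly (Geo.matrixSet H))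
    {K : Subalgebra F (Matrix ι ι F)} (hK : Geo.IsFieldSubalgebra 2 K) (hadj : Geo.IsAdjointClosedFor (polar Q) K)
    (hHK : H ≤ Geo.subalgebraNormalizer K) : Plus10Irr Q H := by
  have : Nonempty ι := Fintype.card_pos_iff.1 (by omega)
  by_cases hsa : Geo.IsSelfAdjointFor (polar Q) K
  · refine Or.inr (Or.inr (Or.inr (Or.inl ⟨?_, K, hK, hsa, hHK⟩)))
    by_contra hcon
    have h2 := Cfsg.Agent.H926.card_even_iff_two_eq_zero.1 hcon
    obtain ⟨m, hm, hme⟩ := Cfsg.Agent.H926.even_dim_of_selfAdjoint hQ.polar_bilinear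
      (fun v => by rw [polar_self hQ, h2, zero_mul]) hQ.nondegenerate h2 hK hsa
    obtain ⟨a, ha⟩ := hme
    omega
  · exfalso
    have hsim := Cfsg.Agent.H926.similarity_of_deg_two hQ (by omega) hH hirr hK hHK hadj hsa
    exact not_plus_of_sim hQ (by decide) hK hsim (m := 5) (by decide) hn hplus

/-- **Irreducible subgroups.** -/
theorem plus10_irreducible [Fintype F] (hn : Fintype.card ι = 10) {Q : (ι → F) → F}
    (hQ : Geo.IsNondegenerateQuadraticForm Q) (hplus : Geo.IsPlusTypeOn Q ⊤) {H : Subgroup (GL ι F)}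
    (hH : H ≤ Geo.omegaGL Q) (hirr : Geo.ActsIrreducibly (Geo.matrixSet H)) : Plus10Irr Q H := by
  have hHI : H ≤ Cfsg.isometryGroup F Q := hH.trans (omegaGL_le_iso Q)
  have : Nonempty ι := Fintype.card_pos_iff.1 (by omega)
  -- totally singular pairs
  have hpair : ∀ (m : ℕ) (D : Fin 2 → Submodule F (ι → F)), Geo.IsMDecomposition m D →
      (∀ i, Geo.IsTotallySingularQuad Q (D i)) → ¬ H ≤ Geo.decompositionStabilizer D := by
    intro m D hD hs hHD
    have hm : 2 * m = Fintype.card ι := Cfsg.Agent.H922.mul_eq_card hD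
    have hm5 : m = 5 := by omega
    subst hm5
    have hst := stab_of_pair hQ hD (by decide) hn hs hH hHD 0
    rcases hirr (D 0) (by
      rintro _ ⟨g, hg, rfl⟩ _ ⟨w, hw, rfl⟩
      exact ((hst hg) w).1 hw) with h | h
    · have := hD.finrank_eq 0
      rw [h, finrank_bot] at this
      omega
    · have := hD.finrank_eq 0
      rw [h, finrank_top, Module.finrank_fintype_fun_eq_card, hn] at this
      omega
  -- fields
  have hfield : ∀ (r : ℕ) (K : Subalgebra F (Matrix ι ι F)), r.Prime → r ∣ Fintype.card ι →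
      Geo.IsFieldSubalgebra r K → Geo.IsAdjointClosedFor (polar Q) K → H ≤ Geo.subalgebraNormalizer K →
      Plus10Irr Q H := by
    intro r K hr hrd hK hadj hHK
    rw [hn] at hrd
    have hr25 : r = 2 ∨ r = 5 := by
      have h1 : r ∣ 2 * 5 := hrd
      rcases (Nat.Prime.dvd_mul hr).1 h1 with h | h
      · exact Or.inl ((Nat.prime_dvd_prime_iff_eq hr Nat.prime_two).1 h)
      · exact Or.inr ((Nat.prime_dvd_prime_iff_eq hr Nat.prime_five).1 h)
    rcases hr25 with rfl | rfl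
    · exact plus10_field_two hn hQ hplus hHI hirr hK hadj hHK
    · have hsa : Geo.IsSelfAdjointFor (polar Q) K := by
        rcases Cfsg.Agent.H924.selfAdjoint_or_two (hermForm_polar hQ) hr hK hadj with h | h
        · exact h
        · exact absurd h (by decide)
      rcases Cfsg.Agent.H926.half_degree hQ hirr hHI hK hsa hn hHK with ⟨t, m, D, hD, hHD, -⟩ |
        ⟨m, D, hD, hs, hHD⟩ | ⟨K', hK', hadj', hHK'⟩
      · exact plus10_decomp hn hQ hplus hHI hirr (Cfsg.Agent.H922.mul_eq_card hD.decomp)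
          (Cfsg.Agent.H922.isOrthogonalMDecomposition_of_irreducible hirr hHI hD hHD) hHD
      · exact absurd hHD (hpair m D hD (quad_pair hQ hHI hirr (by omega) hD hs hHD))
      · exact plus10_field_two hn hQ hplus hHI hirr hK' hadj' hHK'
  -- the second factor of a tensor decomposition has dimension five in the wrong order: reduce to `n₂ = 5`, `n₁ = 2`
  have htens : ∀ (e : ι ≃ Fin 2 × Fin 5) (P : GL ι F) (ε : F) (f₁ : (Fin 2 → F) → (Fin 2 → F) → F)
      (f₂ : (Fin 5 → F) → (Fin 5 → F) → F), (ε = 1 ∨ ε = -1) → HermForm (RingEquiv.refl F) ε f₁ →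
      HermForm (RingEquiv.refl F) ε f₂ → Geo.IsTensorFormStructure id (polar Q) f₁ f₂ e P →
      H ≤ Geo.tensorProductSubgroup 2 5 e P → Plus10Irr Q H := by
    intro e P ε f₁ f₂ hε hf₁ hf₂ hT hHT
    have hbil₂ : Geo.IsBilinearForm f₂ :=
      ⟨hf₂.add_left, hf₂.smul_left, hf₂.add_right, fun c v x => hf₂.smul_right v c x⟩
    have hnalt : ¬ ∀ v, f₂ v v = 0 := by
      intro halt
      have hnd : Geo.IsNondegenerateOn f₂ ⊤ := by
        intro w _ hw0
        obtain ⟨⟨x, hx⟩, ⟨y, hy⟩⟩ := hf₂.nondegenerate w hw0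
        exact ⟨⟨x, trivial, hx⟩, ⟨y, trivial, hy⟩⟩
      have := Cfsg.Agent.H926.even_on hbil₂ ⊤ (fun v _ => halt v) hnd
      rw [finrank_top, Module.finrank_fintype_fun_eq_card, Fintype.card_fin] at this
      exact absurd this (by decide)
    by_cases h2 : (2 : F) = 0
    · exfalso
      apply hnalt
      exact Cfsg.Agent.H912.second_alternating h2 (by norm_num) (by norm_num) hf₁ hf₂ (e := e) (P := P)
        hT hirr hHT (fun g hg => polar_iso (hHI hg))
    · have hε1 : ε = 1 := by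
        rcases hε with h | h
        · exact h
        · exfalso
          apply hnalt
          intro v
          have := hf₂.herm v v
          rw [h] at this
          have h3 : f₂ v v = -1 * f₂ v v := this
          have h4 : 2 * f₂ v v = 0 := by linear_combination h3
          exact (mul_eq_zero.1 h4).resolve_left h2
      subst hε1
      rcases Cfsg.Agent.H924.cases_of_tensor_two h2 (hermForm_polar hQ) hirr (fun g hg => polar_iso (hHI hg))
        (n₁ := 5) (by norm_num) hf₂ hf₁ (Cfsg.Agent.H912.isTensorFormStructure_swap hT)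
        (by rw [Cfsg.Agent.H912.tensorProductSubgroup_swap]; exact hHT) with
        ⟨t, m, D, hD, hHD, -⟩ | ⟨m, D, hD, hs, hHD⟩ | ⟨r, K, hr, hK, hadj, hHK⟩
      · exact plus10_decomp hn hQ hplus hHI hirr (Cfsg.Agent.H922.mul_eq_card hD.decomp)
          (Cfsg.Agent.H922.isOrthogonalMDecomposition_of_irreducible hirr hHI hD hHD) hHD
      · exact absurd hHD (hpair m D hD (quad_pair hQ hHI hirr (by omega) hD hs hHD))
      · exact hfield r K hr (Cfsg.Agent.H912.finrank_dvd_of_fieldSub hK) hK hadj hHK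
  rcases orth_irreducible_fine (by omega) hQ hHI hirr with
    ⟨t, m, D, htm, hD, hHD, -⟩ | ⟨m, D, hm, hD, hs, hHD⟩ | ⟨r, K, hr, hrd, hK, hadj, hHK⟩ |
    ⟨n₁, n₂, e, P, ε, f₁, f₂, h1, h2, h12, hε, hf1, hf2, hT, hHT⟩ |
    ⟨F₁, r, B, ζ, hF₁, hr, hcard, hζ, hrat, hle⟩ | ⟨r, m, R, -, -, -, -, hR, -, hm, hrm, -⟩ |
    ⟨m, t, e, P, E, hmt, hw⟩ | h
  · exact plus10_decomp hn hQ hplus hHI hirr htm hD hHD
  · exact absurd hHD (hpair m D hD hs)
  · exact hfield r K hr hrd hK hadj hHK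
  · rw [hn] at h12
    have hd : n₁ ∣ 10 := ⟨n₂, h12.symm⟩
    have hle : n₁ ≤ 10 := Nat.le_of_dvd (by norm_num) hd
    have hcases : (n₁ = 2 ∧ n₂ = 5) ∨ (n₁ = 5 ∧ n₂ = 2) := by
      interval_cases n₁ <;> omega
    rcases hcases with ⟨rfl, rfl⟩ | ⟨rfl, rfl⟩
    · exact htens e P ε f₁ f₂ hε hf1 hf2 hT hHT
    · exact htens _ P ε f₂ f₁ hε hf2 hf1 (Cfsg.Agent.H912.isTensorFormStructure_swap hT)
        (by rw [Cfsg.Agent.H912.tensorProductSubgroup_swap]; exact hHT)
  · refine Or.inr (Or.inr (Or.inr (Or.inr (Or.inl ⟨F₁, r, B, ζ, hr, ?_, hζ, ?_, hle⟩))))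
    · rw [← Nat.card_eq_fintype_card]; exact hcard
    · exact Cfsg.Agent.H926.quadRational_of_formRational hQ (by omega) hHI hirr hle hζ hrat
  · exfalso
    rw [hn] at hrm
    have h2 : 2 ∣ r ^ m := by rw [← hrm]; decide
    have h5 : 5 ∣ r ^ m := by rw [← hrm]; decide
    have e2 := (Nat.prime_dvd_prime_iff_eq Nat.prime_two hR.prime).1 (Nat.prime_two.dvd_of_dvd_pow h2)
    have e5 := (Nat.prime_dvd_prime_iff_eq Nat.prime_five hR.prime).1 (Nat.prime_five.dvd_of_dvd_pow h5)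
    omega
  · exfalso
    rw [hn] at hmt
    have hm2 := hw.two_le_m
    have ht2 := hw.two_le_t
    have hm3 : m ≤ 3 := by
      by_contra hcon
      have h4 : 4 ^ 2 ≤ m ^ t := (Nat.pow_le_pow_left (by omega) 2).trans (Nat.pow_le_pow_right (by omega) ht2)
      omega
    have ht3 : t ≤ 3 := by
      by_contra hcon
      have h4 : 2 ^ 4 ≤ m ^ t := (Nat.pow_le_pow_left hm2 4).trans (Nat.pow_le_pow_right (by omega) (by omega))
      omega
    interval_cases m <;> interval_cases t <;> omega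
  · exact Or.inr (Or.inr (Or.inr (Or.inr (Or.inr h))))

end Cfsg.Agent.H925
end

-- part: H925/Plus10c
section
/-!
# Maximal subgroups of the ten-dimensional orthogonal group of plus type (assembly)
-/

set_option autoImplicit false
set_option linter.unusedSectionVars false

namespace Cfsg.Agent.H925

open QuadraticMap Matrix

/-- members of a decomposition are nonzero -/
theorem ne_bot_of_decomp {ι : Type} [Fintype ι] [DecidableEq ι] {F : Type*} [Field F] {t m : ℕ}
    {D : Fin t → Submodule F (ι → F)} (hD : Geo.IsMDecomposition m D) (i : Fin t) : D i ≠ ⊥ := by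
  intro h
  have h1 := hD.finrank_eq i
  rw [h, finrank_bot] at h1
  have := hD.pos
  omega

theorem subfield_ne_top {F : Type*} [Field F] [Fintype F] {F₀ : Subfield F} {r : ℕ} (hr : r.Prime)
    (hcard : Fintype.card F = Nat.card F₀ ^ r) : F₀ ≠ ⊤ := by
  rintro rfl
  have h1 : Nat.card (⊤ : Subfield F) = Fintype.card F := by
    rw [← Nat.card_eq_fintype_card]
    exact Nat.card_congr Subfield.topEquiv.toEquiv
  rw [h1] at hcard
  have h2 : 1 < Fintype.card F := Fintype.one_lt_card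
  have h3 : Fintype.card F ^ 1 < Fintype.card F ^ r := Nat.pow_lt_pow_right h2 hr.one_lt
  rw [pow_one] at h3
  omega

theorem plus10_maximal {F : Type*} [Field F] [Fintype F] (Q : (Fin 10 → F) → F)
    (hQ : Cfsg.Geo.IsNondegenerateQuadraticForm Q) (hplus : Cfsg.Geo.IsPlusTypeOn Q ⊤)
    (H : Subgroup (Matrix.GeneralLinearGroup (Fin 10) F))
    (hH : Cfsg.Geo.IsMaximalIn (Cfsg.Geo.omegaGL Q) H) :
    (∃ W : Submodule F (Fin 10 → F), W ≠ ⊥ ∧ Cfsg.Geo.IsTotallySingularQuad Q W ∧ Module.finrank F W ≠ 4 ∧ H = Cfsg.Geo.subspaceStabilizer W ⊓ Cfsg.Geo.omegaGL Q) ∨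
    (Odd (Fintype.card F) ∧ ∃ W : Submodule F (Fin 10 → F), W ≠ ⊥ ∧ W ≠ ⊤ ∧ Odd (Module.finrank F W) ∧ 2 * Module.finrank F W ≠ 10 ∧ Cfsg.Geo.IsNondegenerateOn (QuadraticMap.polar Q) W ∧ H = Cfsg.Geo.subspaceStabilizer W ⊓ Cfsg.Geo.omegaGL Q) ∨
    (∃ W : Submodule F (Fin 10 → F), Module.finrank F W = 2 ∧ Cfsg.Geo.IsNondegenerateOn (QuadraticMap.polar Q) W ∧ ¬ Cfsg.Geo.IsPlusTypeOn Q W ∧ H = Cfsg.Geo.subspaceStabilizer W ⊓ Cfsg.Geo.omegaGL Q) ∨
    (4 ≤ Fintype.card F ∧ ∃ W : Submodule F (Fin 10 → F), Module.finrank F W = 2 ∧ Cfsg.Geo.IsNondegenerateOn (QuadraticMap.polar Q) W ∧ Cfsg.Geo.IsPlusTypeOn Q W ∧ H = Cfsg.Geo.subspaceStabilizer W ⊓ Cfsg.Geo.omegaGL Q) ∨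
    (∃ W : Submodule F (Fin 10 → F), Module.finrank F W = 4 ∧ Cfsg.Geo.IsNondegenerateOn (QuadraticMap.polar Q) W ∧ H = Cfsg.Geo.subspaceStabilizer W ⊓ Cfsg.Geo.omegaGL Q) ∨
    (¬ Odd (Fintype.card F) ∧ ∃ v : (Fin 10 → F), Q v ≠ 0 ∧ H = Cfsg.Geo.subspaceStabilizer (Submodule.span F {v}) ⊓ Cfsg.Geo.omegaGL Q) ∨
    ((∃ p : ℕ, p.Prime ∧ Fintype.card F = p ∧ (p % 4 = 1)) ∧ ∃ D : Fin 10 → Submodule F (Fin 10 → F), Cfsg.Geo.IsOrthogonalMDecomposition Q 1 D ∧ H = Cfsg.Geo.decompositionStabilizer D ⊓ Cfsg.Geo.omegaGL Q) ∨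
    (7 ≤ Fintype.card F ∧ ∃ D : Fin 5 → Submodule F (Fin 10 → F), Cfsg.Geo.IsOrthogonalMDecomposition Q 2 D ∧ H = Cfsg.Geo.decompositionStabilizer D ⊓ Cfsg.Geo.omegaGL Q) ∨
    (Fintype.card F % 4 = 1 ∧ ∃ D : Fin 2 → Submodule F (Fin 10 → F), Cfsg.Geo.IsOrthogonalMDecomposition Q 5 D ∧ H = Cfsg.Geo.decompositionStabilizer D ⊓ Cfsg.Geo.omegaGL Q) ∨
    (Fintype.card F % 4 = 3 ∧ ∃ D : Fin 2 → Submodule F (Fin 10 → F), Cfsg.Geo.IsNondegenerateMDecomposition (QuadraticMap.polar Q) 5 D ∧ ¬ Cfsg.Geo.AreIsometricFor Q (D 0) (D 1) ∧ H = Cfsg.Geo.decompositionStabilizer D ⊓ Cfsg.Geo.omegaGL Q) ∨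
    (Odd (Fintype.card F) ∧ ∃ K : Subalgebra F (Matrix (Fin 10) (Fin 10) F), Cfsg.Geo.IsFieldSubalgebra 2 K ∧ Cfsg.Geo.IsSelfAdjointFor (QuadraticMap.polar Q) K ∧ H = Cfsg.Geo.subalgebraNormalizer K ⊓ Cfsg.Geo.omegaGL Q) ∨
    (∃ (F₀ : Subfield F) (r : ℕ) (P : Matrix.GeneralLinearGroup (Fin 10) F) (ζ : F), r.Prime ∧ Fintype.card F = Nat.card F₀ ^ r ∧ ζ ≠ 0 ∧ Cfsg.Geo.IsQuadFormRationalStructure (fun v : Fin 10 → F => ζ * Q v) F₀ P ∧ H = Cfsg.Geo.subfieldSubgroup F₀ P ⊓ Cfsg.Geo.omegaGL Q) ∨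
    Cfsg.Geo.InOrthogonalResidualClass H := by
  have hn : Fintype.card (Fin 10) = 10 := Fintype.card_fin 10
  have h5 : 5 ≤ Fintype.card (Fin 10) := by rw [hn]; norm_num
  have h6 : 6 ≤ Fintype.card (Fin 10) := by rw [hn]; norm_num
  have hle := hH.1.le
  -- the two ways to conclude
  have hS : ∀ W : Submodule F (Fin 10 → F), W ≠ ⊥ → W ≠ ⊤ → H ≤ Geo.subspaceStabilizer W →
      H = Geo.subspaceStabilizer W ⊓ Geo.omegaGL Q := fun W h0 h1 h =>
    eq_inf_of_isMaximalIn hH h (omegaGL_not_le_subspaceStabilizer hQ h5 h0 h1)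
  have hW : ∀ W : Submodule F (Fin 10 → F), ∀ k : ℕ, Module.finrank F W = k → 0 < k → k < 10 →
      W ≠ ⊥ ∧ W ≠ ⊤ := by
    intro W k hk h0 h1
    constructor
    · rintro rfl
      rw [finrank_bot] at hk
      omega
    · rintro rfl
      rw [finrank_top, Module.finrank_fintype_fun_eq_card, hn] at hk
      omega
  have hDec : ∀ {t m : ℕ} (D : Fin t → Submodule F (Fin 10 → F)), Geo.IsMDecomposition m D →
      H ≤ Geo.decompositionStabilizer D → H = Geo.decompositionStabilizer D ⊓ Geo.omegaGL Q := fun D hD h =>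
    eq_inf_of_isMaximalIn hH h (omegaGL_not_le_decompositionStabilizer hQ h6 hD.two_le
      (fun i => ne_bot_of_decomp hD i) hD.indep)
  by_cases hirr : Geo.ActsIrreducibly (Geo.matrixSet H)
  · rcases plus10_irreducible hn hQ hplus hle hirr  with ⟨hp, D, hD, h⟩ | ⟨h7, D, hD, h⟩ |
      ⟨h1, D, hD, h⟩ | ⟨ho, K, hK, hsa, h⟩ | ⟨F₀, r, P, ζ, hr, hcard, hζ, hrat, h⟩ | h
    · exact Or.inr (Or.inr (Or.inr (Or.inr (Or.inr (Or.inr (Or.inl
        ⟨hp, D, hD, hDec D hD.decomp.decomp h⟩))))))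
    · exact Or.inr (Or.inr (Or.inr (Or.inr (Or.inr (Or.inr (Or.inr (Or.inl
        ⟨h7, D, hD, hDec D hD.decomp.decomp h⟩)))))))
    · exact Or.inr (Or.inr (Or.inr (Or.inr (Or.inr (Or.inr (Or.inr (Or.inr (Or.inl
        ⟨h1, D, hD, hDec D hD.decomp.decomp h⟩))))))))
    · exact Or.inr (Or.inr (Or.inr (Or.inr (Or.inr (Or.inr (Or.inr (Or.inr (Or.inr (Or.inr (Or.inl
        ⟨ho, K, hK, hsa, eq_inf_of_isMaximalIn hH h
          (omegaGL_not_le_subalgebraNormalizer hQ h5 le_rfl hK)⟩))))))))))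
    · exact Or.inr (Or.inr (Or.inr (Or.inr (Or.inr (Or.inr (Or.inr (Or.inr (Or.inr (Or.inr (Or.inr (Or.inl
        ⟨F₀, r, P, ζ, hr, hcard, hζ, hrat, eq_inf_of_isMaximalIn hH h
          (omegaGL_not_le_subfieldSubgroup hQ h5 (subfield_ne_top hr hcard) P)⟩)))))))))))
    · exact Or.inr (Or.inr (Or.inr (Or.inr (Or.inr (Or.inr (Or.inr (Or.inr (Or.inr (Or.inr (Or.inr (Or.inr
        h)))))))))))
  · rcases plus10_reducible hn hQ hplus hle hirr with ⟨W, hW0, hs, h4, h⟩ | ⟨ho, W, hW0, hW1, hWo, h10, hnd, h⟩ |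
      ⟨W, h2, hnd, hnp, h⟩ | ⟨hq, W, h2, hnd, hp, h⟩ | ⟨W, h4, hnd, h⟩ | ⟨ho, v, hv, h⟩ | ⟨h1, D, hD, h⟩ |
      ⟨h3, D, hD, hni, h⟩
    · have hWt : W ≠ ⊤ := by
        rintro rfl
        have := two_mul_finrank_le hQ hs
        rw [finrank_top, Module.finrank_fintype_fun_eq_card, hn] at this
        omega
      exact Or.inl ⟨W, hW0, hs, h4, hS W hW0 hWt h⟩
    · exact Or.inr (Or.inl ⟨ho, W, hW0, hW1, hWo, h10, hnd, hS W hW0 hW1 h⟩)
    · obtain ⟨a, b⟩ := hW W 2 h2 (by norm_num) (by norm_num)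
      exact Or.inr (Or.inr (Or.inl ⟨W, h2, hnd, hnp, hS W a b h⟩))
    · obtain ⟨a, b⟩ := hW W 2 h2 (by norm_num) (by norm_num)
      exact Or.inr (Or.inr (Or.inr (Or.inl ⟨hq, W, h2, hnd, hp, hS W a b h⟩)))
    · obtain ⟨a, b⟩ := hW W 4 h4 (by norm_num) (by norm_num)
      exact Or.inr (Or.inr (Or.inr (Or.inr (Or.inl ⟨W, h4, hnd, hS W a b h⟩))))
    · have hv0 : v ≠ 0 := by
        rintro rfl
        exact hv (Q_zero hQ)
      obtain ⟨a, b⟩ := hW (Submodule.span F {v}) 1 (finrank_span_singleton hv0) (by norm_num) (by norm_num)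
      exact Or.inr (Or.inr (Or.inr (Or.inr (Or.inr (Or.inl ⟨ho, v, hv, hS _ a b h⟩)))))
    · exact Or.inr (Or.inr (Or.inr (Or.inr (Or.inr (Or.inr (Or.inr (Or.inr (Or.inl
        ⟨h1, D, hD, hDec D hD.decomp.decomp h⟩))))))))
    · exact Or.inr (Or.inr (Or.inr (Or.inr (Or.inr (Or.inr (Or.inr (Or.inr (Or.inr (Or.inl
        ⟨h3, D, hD, hni, hDec D hD.decomp h⟩)))))))))

end Cfsg.Agent.H925
end
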